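import Cfsg.Agent.H139.Hecke.Sym
import Cfsg.Agent.H116.HeckeD
import Cfsg.Agent.H139.RealB0.Crit

/-!
# The constituents of the permutation character on the chambers are real-valued (helper139)

* `ad_mul`, `mul_ad`, `comm_iff` : as in `H116/HeckeC.lean`, with parameters `q i` depending on the node;
* `par_of_bldg` : the parameters of a finite building satisfy `Par`;
* `real_of_bldg` : if every `w : W` is conjugate to `w⁻¹` and `G` acts strongly transitively, then every irreducible
  constituent of the permutation character of `G` on the chambers is real-valued.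
-/

set_option autoImplicit false
set_option linter.unusedSectionVars false

namespace Cfsg.Agent.H139.Hecke

open CoxeterSystem Module Cfsg Cfsg.Agent.Tits.Core Matrix Cfsg.Agent.Characters.Core
open Cfsg.Agent.H116.HeckeC (ad ad_apply ad_transpose ad_injective Pm Pm_apply Pm_mul_apply mul_Pm_apply Ph Ph_apply
  Ph_comm)
open scoped ComplexConjugate

section Bldg

variable {I W : Type*} {M : CoxeterMatrix I} [Group W] {cs : CoxeterSystem M W} {C : Type*} (Δ : Bldg cs C)

variable [DecidableEq W]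

theorem e_apply (w x : W) : e w x = if x = w then 1 else 0 := Pi.single_apply w 1 x

variable [Fintype C] [DecidableEq C] {q : I → ℕ} (hq : ∀ x i, Nat.card {y // Δ.δ x y = cs.simple i} = q i)

include hq

theorem card_filter (x : C) (i : I) : (Finset.univ.filter fun y => Δ.δ x y = cs.simple i).card = q i := by
  rw [← hq x i, Nat.card_eq_fintype_card, Fintype.card_subtype]

theorem q_pos [Nonempty C] (i : I) : 0 < q i := by
  obtain ⟨x⟩ := ‹Nonempty C›
  obtain ⟨y, hy⟩ := Δ.exists_δ x (cs.simple i)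
  rw [← card_filter Δ hq x i, Finset.card_pos]
  exact ⟨y, Finset.mem_filter.2 ⟨Finset.mem_univ _, hy⟩⟩

/-- Right multiplication by the matrix of a fundamental reflection. -/
theorem ad_mul (v : W → ℂ) (i : I) : ad Δ v * ad Δ (e (cs.simple i)) = ad Δ (R cs (fun i => (q i : ℝ)) i v) := by
  ext x z
  rw [mul_apply, ad_apply, R_apply]
  have h0 : ∀ y, ad Δ v x y * ad Δ (e (cs.simple i)) y z =
      if Δ.δ z y = cs.simple i then v (Δ.δ x y) else 0 := by
    intro y
    rw [ad_apply, ad_apply, e_apply, mul_ite, mul_one, mul_zero]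
    have : Δ.δ y z = cs.simple i ↔ Δ.δ z y = cs.simple i :=
      ⟨fun h => Δ.δ_symm_simple h, fun h => Δ.δ_symm_simple h⟩
    by_cases h : Δ.δ y z = cs.simple i
    · rw [if_pos h, if_pos (this.1 h)]
    · rw [if_neg h, if_neg fun h' => h (this.2 h')]
  rw [Finset.sum_congr rfl fun y _ => h0 y, ← Finset.sum_filter]
  rcases cs.length_mul_simple (Δ.δ x z) i with hl | hl
  · rw [if_neg (by omega)]
    have h1 : ∀ y ∈ Finset.univ.filter (fun y => Δ.δ z y = cs.simple i), v (Δ.δ x y) = v (Δ.δ x z * cs.simple i) := by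
      intro y hy
      rw [Δ.step_lt x z y i (Finset.mem_filter.1 hy).2 (by omega)]
    rw [Finset.sum_congr rfl h1, Finset.sum_const, card_filter Δ hq, nsmul_eq_mul]
    push_cast
    rfl
  · rw [if_pos (by omega)]
    obtain ⟨y₀, hy₀, hy₀'⟩ := Δ.exists_step x z i
    have hmem : y₀ ∈ Finset.univ.filter (fun y => Δ.δ z y = cs.simple i) :=
      Finset.mem_filter.2 ⟨Finset.mem_univ _, hy₀⟩
    have h1 : ∀ y ∈ (Finset.univ.filter (fun y => Δ.δ z y = cs.simple i)).erase y₀, v (Δ.δ x y) = v (Δ.δ x z) := by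
      intro y hy
      obtain ⟨hne, hy⟩ := Finset.mem_erase.1 hy
      have hy1 := (Finset.mem_filter.1 hy).2
      have h2 : y ∈ Δ.Pan i y₀ :=
        Δ.mem_Pan_trans (Δ.mem_Pan_symm (Δ.mem_Pan_of_δ hy₀)) (Δ.mem_Pan_of_δ hy1)
      have h3 : Δ.δ y₀ y = cs.simple i := h2.resolve_left hne
      have h4 := Δ.step_lt x y₀ y i h3 (by
        rw [hy₀', mul_assoc, cs.simple_mul_simple_self, mul_one]; omega)
      rw [h4, hy₀', mul_assoc, cs.simple_mul_simple_self, mul_one]
    have hpos : 0 < q i := by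
      rw [← card_filter Δ hq z i, Finset.card_pos]
      exact ⟨y₀, hmem⟩
    rw [← Finset.add_sum_erase _ _ hmem, Finset.sum_congr rfl h1, Finset.sum_const,
      Finset.card_erase_of_mem hmem, card_filter Δ hq, hy₀', nsmul_eq_mul, Nat.cast_sub (by omega)]
    push_cast
    rfl

/-- Left multiplication by the matrix of a fundamental reflection. -/
theorem mul_ad (v : W → ℂ) (i : I) : ad Δ (e (cs.simple i)) * ad Δ v = ad Δ (L cs (fun i => (q i : ℝ)) i v) := by
  have h1 : (ad Δ (e (cs.simple i)))ᵀ = ad Δ (e (cs.simple i)) := by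
    rw [ad_transpose]
    congr 1
    funext w
    rw [e_apply, e_apply]
    congr 1
    rw [inv_eq_iff_eq_inv, cs.inv_simple]
  rw [← transpose_inj, transpose_mul, h1, ad_transpose, ad_transpose, ad_mul Δ hq]
  congr 1
  funext w
  rw [R_apply, L_apply]
  have h2 : (w * cs.simple i)⁻¹ = cs.simple i * w⁻¹ := by rw [_root_.mul_inv_rev, cs.inv_simple]
  rw [h2, ← cs.length_inv w, ← cs.length_inv (w * cs.simple i), h2]

theorem comm_iff [Nonempty C] (v : W → ℂ) :
    v ∈ Z cs (fun i => (q i : ℝ)) ↔ ∀ i, ad Δ (e (cs.simple i)) * ad Δ v = ad Δ v * ad Δ (e (cs.simple i)) := by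
  rw [mem_Z]
  refine forall_congr' fun i => ?_
  rw [mul_ad Δ hq, ad_mul Δ hq]
  exact ⟨fun h => by rw [h], fun h => ad_injective Δ h⟩

/-- The row sums of the matrix of a fundamental reflection. -/
theorem row_simple (x : C) (i : I) : ∑ y, ad Δ (e (cs.simple i)) x y = (q i : ℂ) := by
  have h0 : ∀ y, ad Δ (e (cs.simple i)) x y = if Δ.δ x y = cs.simple i then (1 : ℂ) else 0 := fun y => by
    rw [ad_apply, e_apply]
  rw [Finset.sum_congr rfl fun y _ => h0 y, Finset.sum_boole, card_filter Δ hq]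

/-- The row sums of the matrix of a reduced word. -/
theorem row_word {ω : List I} (hω : cs.IsReduced ω) (x : C) :
    ∑ y, ad Δ (e (cs.wordProd ω)) x y = (((ω.map q).prod : ℕ) : ℂ) := by
  induction ω generalizing x with
  | nil =>
    have h0 : ∀ y, ad Δ (e (cs.wordProd [])) x y = if x = y then (1 : ℂ) else 0 := by
      intro y
      rw [ad_apply, e_apply, wordProd_nil]
      by_cases h : x = y
      · rw [if_pos h, if_pos ((Δ.eq_one x y).2 h)]
      · rw [if_neg h, if_neg fun h' => h ((Δ.eq_one x y).1 h')]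
    rw [Finset.sum_congr rfl fun y _ => h0 y, Finset.sum_ite_eq, if_pos (Finset.mem_univ _)]
    simp
  | cons i ω ih =>
    have hr := reduced_tail cs hω
    have h1 : ad Δ (e (cs.wordProd (i :: ω))) = ad Δ (e (cs.simple i)) * ad Δ (e (cs.wordProd ω)) := by
      rw [mul_ad Δ hq, L_e, wordProd_cons]
      rw [← wordProd_cons, hω.eq, hr.eq, List.length_cons]
      omega
    rw [h1]
    have h2 : ∑ y, (ad Δ (e (cs.simple i)) * ad Δ (e (cs.wordProd ω))) x y =
        ∑ z, ad Δ (e (cs.simple i)) x z * ∑ y, ad Δ (e (cs.wordProd ω)) z y := by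
      simp only [mul_apply]
      rw [Finset.sum_comm]
      exact Finset.sum_congr rfl fun z _ => by rw [Finset.mul_sum]
    rw [h2, Finset.sum_congr rfl fun z _ => by rw [ih hr z], ← Finset.sum_mul, row_simple Δ hq, List.map_cons,
      List.prod_cons]
    push_cast
    rfl

/-- The parameters of a finite building are constant on the conjugate fundamental reflections. -/
theorem par_of_bldg [Nonempty C] : Par cs (fun i => (q i : ℝ)) := by
  have key : ∀ (i j : I) (w : W), cs.simple i * w = w * cs.simple j → cs.length w < cs.length (cs.simple i * w) →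
      q i = q j := by
    intro i j w h hl
    obtain ⟨x⟩ := ‹Nonempty C›
    obtain ⟨ω, hω, rfl⟩ := cs.exists_isReduced w
    have h1 : ad Δ (e (cs.simple i * cs.wordProd ω)) = ad Δ (e (cs.simple i)) * ad Δ (e (cs.wordProd ω)) := by
      rw [mul_ad Δ hq, L_e cs _ hl]
    have h2 : ad Δ (e (cs.wordProd ω * cs.simple j)) = ad Δ (e (cs.wordProd ω)) * ad Δ (e (cs.simple j)) := by
      rw [ad_mul Δ hq, R_e cs _ (by rw [← h]; exact hl)]
    have h3 : ∑ y, (ad Δ (e (cs.simple i)) * ad Δ (e (cs.wordProd ω))) x y =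
        (q i : ℂ) * (((ω.map q).prod : ℕ) : ℂ) := by
      simp only [mul_apply]
      rw [Finset.sum_comm, ← row_simple Δ hq x i, Finset.sum_mul]
      refine Finset.sum_congr rfl fun z _ => ?_
      rw [← Finset.mul_sum, row_word Δ hq hω]
    have h4 : ∑ y, (ad Δ (e (cs.wordProd ω)) * ad Δ (e (cs.simple j))) x y =
        (((ω.map q).prod : ℕ) : ℂ) * (q j : ℂ) := by
      simp only [mul_apply]
      rw [Finset.sum_comm, ← row_word Δ hq hω x, Finset.sum_mul]
      refine Finset.sum_congr rfl fun z _ => ?_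
      rw [← Finset.mul_sum, row_simple Δ hq]
    rw [← h1, h, h2, h4] at h3
    have h5 : ((ω.map q).prod * q j : ℕ) = q i * (ω.map q).prod := by exact_mod_cast h3
    have h6 : 0 < (ω.map q).prod := by
      apply List.prod_pos
      intro a ha
      obtain ⟨k, -, rfl⟩ := List.mem_map.1 ha
      have : Nonempty C := ⟨x⟩
      exact q_pos Δ hq k
    rw [mul_comm] at h5
    exact (Nat.eq_of_mul_eq_mul_right h6 h5).symm
  intro i j w h
  show (q i : ℝ) = q j
  have h0 : q i = q j := by
    rcases lenL cs i w with hl | hl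
    · exact key i j w h (by omega)
    · refine key i j (cs.simple i * w) ?_ ?_
      · conv_rhs => rw [h]
        simp
      · rw [← mul_assoc, cs.simple_mul_simple_self, one_mul]
        omega
  rw [h0]

end Bldg

section Main

variable {I W : Type*} {M : CoxeterMatrix I} [Group W] {cs : CoxeterSystem M W} {C : Type*} (Δ : Bldg cs C)
  {G : Type*} [Group G] [MulAction G C]

theorem Ph_entry [Fintype G] [Fintype C] [DecidableEq C] (f : G → ℂ) (x y : C) :
    Ph C f x y = ∑ g : G, if g • x = y then f g else 0 := by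
  rw [Ph_apply, Matrix.sum_apply]
  refine Finset.sum_congr rfl fun g _ => ?_
  rw [Matrix.smul_apply, smul_eq_mul, Pm_apply]
  have h : x = g⁻¹ • y ↔ g • x = y := by rw [eq_inv_smul_iff]
  by_cases h1 : g • x = y
  · rw [if_pos h1, if_pos (h.2 h1), mul_one]
  · rw [if_neg h1, if_neg fun h2 => h1 (h.1 h2), mul_zero]

/-- **The irreducible constituents of the permutation character on the chambers are real-valued.** -/
theorem real_of_bldg [Finite W] [Finite I] [Finite C] [Finite G]
    (hiso : ∀ (g : G) (x y : C), Δ.δ (g • x) (g • y) = Δ.δ x y)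
    (htr : ∀ x y x' y' : C, Δ.δ x y = Δ.δ x' y' → ∃ g : G, g • x = x' ∧ g • y = y')
    {q : I → ℕ} (hq : ∀ x i, Nat.card {y // Δ.δ x y = cs.simple i} = q i)
    (hamb : ∀ w : W, IsConj w w⁻¹) (x₀ : C) [Fintype (MulAction.stabilizer G x₀)] (χ : IrrCharacter G)
    (h0 : ∑ h : MulAction.stabilizer G x₀, (χ : G → ℂ) h ≠ 0) (g : G) : ((χ : G → ℂ) g).im = 0 := by
  classical
  let _ : Fintype W := Fintype.ofFinite W
  let _ : Fintype C := Fintype.ofFinite C
  let _ : Fintype G := Fintype.ofFinite G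
  have hne : Nonempty C := ⟨x₀⟩
  have hcl := isIrr_isClassFunction χ.2
  obtain ⟨v, hv⟩ := Cfsg.Agent.H116.HeckeD.exists_ad Δ htr (X := Ph C (χ : G → ℂ)) fun g => Ph_comm hcl g
  have hZ : v ∈ Z cs (fun i => (q i : ℝ)) := by
    rw [comm_iff Δ hq]
    intro i
    rw [← hv, Ph_apply, Finset.mul_sum, Finset.sum_mul]
    refine Finset.sum_congr rfl fun g _ => ?_
    rw [mul_smul_comm, smul_mul_assoc, Cfsg.Agent.H116.HeckeD.Pm_ad Δ hiso]
  have hsym := symm_of_mem_Z cs (par_of_bldg Δ hq) (fun i => by exact_mod_cast q_pos Δ hq i) hamb hZ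
  have hT : ∀ x y : C, Ph C (χ : G → ℂ) x y = Ph C (χ : G → ℂ) y x := by
    intro x y
    rw [hv, ad_apply, ad_apply, Δ.symm x y, hsym]
  have hconj : ∀ x y : C, Ph C (χ : G → ℂ) y x = conj (Ph C (χ : G → ℂ) x y) := by
    intro x y
    rw [Ph_entry, Ph_entry, map_sum]
    refine Fintype.sum_equiv (Equiv.inv G) _ _ fun g => ?_
    rw [Equiv.inv_apply]
    have h : g • y = x ↔ g⁻¹ • x = y := by rw [inv_smul_eq_iff, eq_comm]
    by_cases h1 : g • y = x
    · rw [if_pos h1, if_pos (h.1 h1), ← isCharacter_apply_inv (isIrr_isCharacter χ.2), inv_inv]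
    · rw [if_neg h1, if_neg fun h2 => h1 (h.2 h2), map_zero]
  refine Cfsg.Agent.H139.RealB0.Crit.real_of_sum_real (MulAction.stabilizer G x₀) χ h0 (fun a => ?_) g
  have hS : ∑ h : MulAction.stabilizer G x₀, (χ : G → ℂ) (a * h) = Ph C (χ : G → ℂ) x₀ (a • x₀) := by
    rw [Ph_entry, ← Finset.sum_filter]
    refine Finset.sum_bij (fun h _ => a * (h : G)) ?_ ?_ ?_ ?_
    · intro h _
      rw [Finset.mem_filter]
      refine ⟨Finset.mem_univ _, ?_⟩
      rw [mul_smul, MulAction.mem_stabilizer_iff.1 h.2]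
    · intro h _ h' _ e
      exact Subtype.ext (mul_left_cancel e)
    · intro g hg
      refine ⟨⟨a⁻¹ * g, ?_⟩, Finset.mem_univ _, mul_inv_cancel_left a g⟩
      rw [MulAction.mem_stabilizer_iff, mul_smul, (Finset.mem_filter.1 hg).2, inv_smul_smul]
    · intro h _
      rfl
  rw [hS, ← hconj, hT]

end Main

end Cfsg.Agent.H139.Hecke
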